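import Groth.Agent.Lib.PicH1_21.Sequence
import Groth.Agent.Lib.CohFound.ClosedImmPush
import Groth.Agent.Lib.CohFound.AffMor
import Groth.Agent.Lib.CohFound.HHBridge
import Groth.Agent.Lib.TensorMod.PicLaw

/-!
# Lifting invertible modules along square zero thickenings
-/

set_option autoImplicit false
set_option linter.style.haveILetI false
set_option backward.isDefEq.respectTransparency false

universe u

open CategoryTheory CategoryTheory.Limits AlgebraicGeometry TopologicalSpace Opposite

namespace Groth.Agent.FGA3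

variable {X : Scheme.{u}} {I : X.IdealSheafData}

theorem subsingleton_of_addEquiv {A B : Type*} [AddCommGroup A] [AddCommGroup B] (e : A ≃+ B) [Subsingleton B] :
    Subsingleton A := e.toEquiv.subsingleton

/-- The cohomology of a square zero ideal is computed on the closed subscheme. -/
theorem subsingleton_HH_ideal (hI : I * I = ⊥) (n : ℕ)
    [Subsingleton (Coh.HH I.subscheme ((Scheme.Modules.pullback I.subschemeι).obj (ClSub.idealMod I)) n)] :
    Subsingleton (Coh.HH X (ClSub.idealMod I) n) := by
  let i := I.subschemeι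
  let M := ClSub.idealMod I
  have hM : Coh.IsQCoh M := M2.isQCoh_idealMod I
  haveI : IsIso ((Scheme.Modules.pullbackPushforwardAdjunction i).unit.app M) :=
    M1.isIso_unit_of_ker_smul i M hM fun U a ha s => by
      refine M2.idealIncl_injective I U.1 ?_
      rw [M2.idealIncl_smul, PicH1_21.idealIncl_zero]
      have ha' : a ∈ I.ideal U := by rwa [Scheme.IdealSheafData.ker_subschemeι] at ha
      obtain ⟨b, rfl⟩ := (M2.range_idealIncl I U).ge ha'
      exact PicH1_21.idealIncl_mul_idealIncl hI b s
  let N := (Scheme.Modules.pullback i).obj M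
  haveI : N.IsQuasicoherent := M1.isQCoh_pullback i hM
  obtain ⟨e⟩ := CohFound.nonempty_hc_push_isAffineHom i N n ⊤
  haveI : Subsingleton (CohFound.Hc ((CohFound.abF I.subscheme).obj N) n (i ⁻¹ᵁ ⊤)) :=
    subsingleton_of_addEquiv (CohFound.hhExt N n).symm
  haveI := subsingleton_of_addEquiv e
  haveI := subsingleton_of_addEquiv (CohFound.hhExt ((Scheme.Modules.pushforward i).obj N) n)
  exact subsingleton_of_addEquiv ((CohFound.hhExt M n).trans
    ((CohFound.mpEquiv ((CohFound.abF X).mapIso (asIso ((Scheme.Modules.pullbackPushforwardAdjunction i).unit.app M))) n ⊤).trans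
      (CohFound.hhExt ((Scheme.Modules.pushforward i).obj N) n).symm))

attribute [local instance] M2.law in
/-- Invertible modules lift when `H²(I) = 0`. -/
theorem exists_lift (hI : I * I = ⊥)
    [Subsingleton (Coh.HH I.subscheme ((Scheme.Modules.pullback I.subschemeι).obj (ClSub.idealMod I)) 2)]
    (L₀ : I.subscheme.Modules) (hL₀ : PicF.IsInvertible L₀) :
    ∃ L : X.Modules, PicF.IsInvertible L ∧
      Nonempty ((Scheme.Modules.pullback I.subschemeι).obj L ≅ L₀) := by
  haveI := subsingleton_HH_ideal (I := I) hI 2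
  have hi : PicGrp.PullMul I.subschemeι := M2.pullMul _
  obtain ⟨d, hd⟩ := (PicH1_21.δ₁Add_eq_zero_iff hI hi (PicGrp.cls L₀ hL₀)).1 (Subsingleton.elim _ _)
  obtain ⟨L, hL, rfl⟩ := PicGrp.exists_eq_cls d
  exact ⟨L, hL, (PicGrp.cls_eq_cls_iff (PicLoc.isInvertible_pullback _ hL) hL₀).1
    ((Subtype.ext rfl : PicGrp.cls _ (PicLoc.isInvertible_pullback _ hL) = _).trans hd)⟩

attribute [local instance] M2.law in
/-- Lifts are unique when `H¹(I) = 0`. -/
theorem nonempty_iso_of_lift (hI : I * I = ⊥)
    [Subsingleton (Coh.HH I.subscheme ((Scheme.Modules.pullback I.subschemeι).obj (ClSub.idealMod I)) 1)]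
    {L L' : X.Modules} (hL : PicF.IsInvertible L) (hL' : PicF.IsInvertible L')
    (e : (Scheme.Modules.pullback I.subschemeι).obj L ≅ (Scheme.Modules.pullback I.subschemeι).obj L') :
    Nonempty (L ≅ L') := by
  haveI := subsingleton_HH_ideal (I := I) hI 1
  have hi : PicGrp.PullMul I.subschemeι := M2.pullMul _
  have h : PicGrp.pullHom I.subschemeι hi (PicGrp.cls L hL / PicGrp.cls L' hL') = 1 := by
    rw [map_div, div_eq_one]
    refine Eq.trans (Subtype.ext rfl) (Eq.trans ((PicGrp.cls_eq_cls_iff (PicLoc.isInvertible_pullback _ hL)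
      (PicLoc.isInvertible_pullback _ hL')).2 ⟨e⟩) (Subtype.ext rfl))
  obtain ⟨x, hx⟩ := (PicH1_21.pullHom_eq_one_iff hI hi _).1 h
  rw [Subsingleton.elim x 0, map_zero] at hx
  exact (PicGrp.cls_eq_cls_iff hL hL').1 (div_eq_one.1 (congrArg Additive.toMul hx.symm))

end Groth.Agent.FGA3
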