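import Groth.Agent.Lib.FGA3.UnitsThick
import Groth.Agent.Lib.CohFound.FormalFn
import Groth.Agent.Lib.PropSuppH7.Basic
import Groth.Agent.Lib.FormalH7.ModSec
import Groth.Agent.Lib.CurveCoh17.Skyscraper
import Groth.Agent.Lib.ModM1.Coh
import Groth.Agent.Lib.CurveCoh17.Degree
import Groth.Agent.Lib.PicH1_21.Rep
import Groth.Agent.Lib.Cyc26.Stalk

/-!
# Invertible modules trivial on all thickenings of the closed fibre
-/

set_option autoImplicit false
set_option linter.style.haveILetI false
set_option backward.isDefEq.respectTransparency false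
set_option backward.isDefEq.respectTransparency.types false
set_option maxHeartbeats 1000000

universe u

open CategoryTheory CategoryTheory.Limits AlgebraicGeometry TopologicalSpace Opposite IsLocalRing

noncomputable section

namespace Groth.Agent.FGA3

variable {A : Type u} [CommRing A] {X : Scheme.{u}} [X.Over (Spec (CommRingCat.of A))]

/-- A global section as a morphism from the structure module. -/
def homOfTop {M : X.Modules} (s : Γ(M, ⊤)) : Coh.structureModule X ⟶ M :=
  (SheafOfModules.unitHomEquiv M).symm (PresheafOfModules.sectionsMk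
    (fun V => M.presheaf.map (homOfLE (le_top : V.unop ≤ ⊤)).op s)
    (fun V W r => by
      show M.presheaf.map r (M.presheaf.map (homOfLE (le_top : V.unop ≤ ⊤)).op s) = _
      rw [← CategoryTheory.comp_apply, ← Functor.map_comp]
      rfl))

theorem homOfTop_app_one {M : X.Modules} (s : Γ(M, ⊤)) :
    (homOfTop s).app ⊤ (show Γ(Coh.structureModule X, ⊤) from (1 : Γ(X, ⊤))) = s := by
  have h := congrArg (fun z : SheafOfModules.sections M => z.val (op ⊤))
    ((SheafOfModules.unitHomEquiv M).apply_symm_apply (PresheafOfModules.sectionsMk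
      (fun V => M.presheaf.map (homOfLE (le_top : V.unop ≤ ⊤)).op s)
      (fun V W r => by
        show M.presheaf.map r (M.presheaf.map (homOfLE (le_top : V.unop ≤ ⊤)).op s) = _
        rw [← CategoryTheory.comp_apply, ← Functor.map_comp]
        rfl)))
  refine Eq.trans h ?_
  show M.presheaf.map (homOfLE (le_top : (⊤ : X.Opens) ≤ ⊤)).op s = s
  rw [show (homOfLE (le_top : (⊤ : X.Opens) ≤ ⊤)).op = 𝟙 _ from rfl, CategoryTheory.Functor.map_id]
  rfl

/-- A morphism out of the structure module is its value at one. -/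
theorem hom_ext_one {M : X.Modules} (φ ψ : Coh.structureModule X ⟶ M)
    (h : φ.app ⊤ (show Γ(Coh.structureModule X, ⊤) from (1 : Γ(X, ⊤))) =
      ψ.app ⊤ (show Γ(Coh.structureModule X, ⊤) from (1 : Γ(X, ⊤)))) : φ = ψ := by
  refine (SheafOfModules.unitHomEquiv M).injective (Subtype.ext (funext fun V => ?_))
  have h1 : (show Γ(Coh.structureModule X, V.unop) from (1 : Γ(X, V.unop))) =
      (Coh.structureModule X).presheaf.map (homOfLE (le_top : V.unop ≤ ⊤)).op
        (show Γ(Coh.structureModule X, ⊤) from (1 : Γ(X, ⊤))) :=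
    (map_one (X.presheaf.map (homOfLE (le_top : V.unop ≤ ⊤)).op).hom).symm
  show φ.app V.unop _ = ψ.app V.unop _
  exact (congrArg (φ.app _) h1).trans (((M1.map_app_eq φ _ _).trans ((congrArg _ h).trans
    (M1.map_app_eq ψ _ _).symm)).trans (congrArg (ψ.app _) h1).symm)

theorem epi_unitToPush {Z : Scheme.{u}} (i : Z ⟶ X) [IsClosedImmersion i] : Epi (ClSub.unitToPush i) := by
  refine (M1.epi_iff_locally_surjective _).mpr fun U t x hx => ?_
  obtain ⟨W, hW, hxW, hWU⟩ := exists_isAffineOpen_mem_and_subset hx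
  obtain ⟨s, hs⟩ := i.app_surjective W hW
    (((Scheme.Modules.pushforward i).obj (Coh.structureModule Z)).presheaf.map (homOfLE hWU).op t)
  exact ⟨W, hWU, hxW, s, hs⟩

/-- A trivialisation modulo `Iⁿ` gives an epimorphism from the structure module. -/
theorem exists_epi_modPow [IsLocallyNoetherian X] (I : Ideal A) (n : ℕ) {M : X.Modules} (hM : Coh.IsCoh M)
    (e : (Scheme.Modules.pullback (iq (X ↘ Spec (CommRingCat.of A)) (I ^ n))).obj M ≅
      Coh.structureModule (pullback (X ↘ Spec (CommRingCat.of A)) (spQ (I ^ n)))) :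
    ∃ φ : Coh.structureModule X ⟶ Formal.modPow I n M, Epi φ := by
  let f := X ↘ Spec (CommRingCat.of A)
  let J := I ^ n
  let i := iq f J
  letI : (pullback f (spQ J)).Over (Spec (CommRingCat.of A)) := ⟨i ≫ f⟩
  let Q := Formal.modPow I n M
  let π := Formal.modPowπ I n M
  have hQ : Coh.IsCoh Q := Algz27C.isCoh_modPow (I := I) n hM
  haveI hu : IsIso ((Scheme.Modules.pullbackPushforwardAdjunction i).unit.app Q) := by
    refine M1.isIso_unit_of_ker_smul i Q hQ.1 fun U a ha s => ?_
    rw [ideal_ker_iq] at ha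
    induction ha using Submodule.span_induction with
    | mem y hy =>
      obtain ⟨c, hc, rfl⟩ := hy
      have h0 : (Formal.smulMod A Q c).app U.1 s = 0 := by
        rw [FormalH7.killedBy_modPow I n M c hc]
        rfl
      rw [FormalH7.smulMod_app] at h0
      exact h0
    | zero => rw [zero_smul]
    | add y z _ _ hy hz => rw [add_smul, hy, hz, add_zero]
    | smul r y _ hy => rw [smul_eq_mul, mul_smul, hy, smul_zero]
  have hd : IsIso (cokernel.desc (Formal.smulFamily J M) π (cokernel.condition _)) := by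
    have : cokernel.desc (Formal.smulFamily J M) π (cokernel.condition _) = 𝟙 _ :=
      coequalizer.hom_ext ((cokernel.π_desc _ _ _).trans (Category.comp_id _).symm)
    rw [this]
    exact IsIso.id _
  obtain ⟨h', hd'⟩ := FormalH7.isQuot_pullback i rfl π (cokernel.condition _) hd
  have hk : Formal.KilledBy J ((Scheme.Modules.pullback i).obj M) := fun c hc => by
    have hz : Coh.toGlobal ((pullback f (spQ J)) ↘ Spec (CommRingCat.of A)) c = 0 := by
      have hw : (pullback f (spQ J)) ↘ Spec (CommRingCat.of A) = pullback.snd f (spQ J) ≫ spQ J :=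
        pullback.condition
      rw [hw]
      show ((pullback.snd f (spQ J) ≫ spQ J).appTop) ((Scheme.ΓSpecIso (CommRingCat.of A)).inv c) = 0
      have h := (ConcreteCategory.congr_hom (Scheme.ΓSpecIso_inv_naturality (CommRingCat.ofHom (Ideal.Quotient.mk J))) c).symm
      rw [Scheme.Hom.comp_appTop, CategoryTheory.comp_apply]
      refine (congrArg _ ?_).trans (map_zero _)
      refine h.trans ?_
      show (Scheme.ΓSpecIso (CommRingCat.of (A ⧸ J))).inv (Ideal.Quotient.mk J c) = 0
      rw [Ideal.Quotient.eq_zero_iff_mem.2 hc, map_zero]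
    refine Scheme.Modules.hom_ext _ _ fun U => ?_
    ext s
    rw [FormalH7.smulMod_app]
    show ((pullback f (spQ J)).presheaf.map (homOfLE (le_top : U ≤ ⊤)).op (Coh.toGlobal _ c)) • s = 0
    rw [hz, map_zero, zero_smul]
  haveI := hd'
  haveI : IsIso (cokernel.π (Formal.smulFamily J ((Scheme.Modules.pullback i).obj M))) :=
    FormalH7.isIso_modPowπ hk
  haveI : IsIso ((Scheme.Modules.pullback i).map π) := by
    rw [← cokernel.π_desc _ _ h']
    exact IsIso.comp_isIso' inferInstance hd'
  let g : (Scheme.Modules.pushforward i).obj (Coh.structureModule (pullback f (spQ J))) ⟶ Q :=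
    (Scheme.Modules.pushforward i).map (e.inv ≫ (Scheme.Modules.pullback i).map π) ≫
      inv ((Scheme.Modules.pullbackPushforwardAdjunction i).unit.app Q)
  haveI : Epi (ClSub.unitToPush i) := epi_unitToPush i
  haveI : IsIso g := inferInstanceAs (IsIso (_ ≫ _))
  exact ⟨ClSub.unitToPush i ≫ g, epi_comp _ _⟩

variable [IsNoetherianRing A] [IsLocalRing A] [IsProper (X ↘ Spec (CommRingCat.of A))]

/-- A section lifting a trivialisation of the closed fibre. -/
theorem exists_hom_of_trivial (I : Ideal A) {M : X.Modules} (hM : Coh.IsCoh M)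
    (h : ∀ n : ℕ, Nonempty ((Scheme.Modules.pullback (iq (X ↘ Spec (CommRingCat.of A)) (I ^ (n + 1)))).obj M ≅
      Coh.structureModule (pullback (X ↘ Spec (CommRingCat.of A)) (spQ (I ^ (n + 1)))))) :
    ∃ σ : Coh.structureModule X ⟶ M, Epi (σ ≫ Formal.modPowπ I (0 + 1) M) := by
  haveI : IsLocallyNoetherian X := LocallyOfFiniteType.isLocallyNoetherian (X ↘ Spec (CommRingCat.of A))
  obtain ⟨c, hc⟩ := CohFound.FF.exists_range_eq I M 0 hM
  obtain ⟨e⟩ := h c
  obtain ⟨φ, hφ⟩ := exists_epi_modPow I (c + 1) hM e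
  let T := (Formal.completion I M).map (homOfLE (Nat.zero_le c)).op
  haveI : Epi T := by
    have hT : Formal.modPowπ I (c + 1) M ≫ T = Formal.modPowπ I (0 + 1) M := CohFound.FF.modPowπ_completion_map I M 0 c (Nat.zero_le c)
    haveI : Epi (Formal.modPowπ I (c + 1) M ≫ T) := by rw [hT]; exact inferInstanceAs (Epi (cokernel.π _))
    exact epi_of_epi (Formal.modPowπ I (c + 1) M) T
  let t : Γ(Formal.modPow I (c + 1) M, ⊤) := φ.app ⊤ (show Γ(Coh.structureModule X, ⊤) from (1 : Γ(X, ⊤)))
  obtain ⟨w, hw⟩ := (hc 0 c (Nat.zero_le c) (by omega)).le ⟨(CurveCoh17.hh0 _).symm t, rfl⟩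
  refine ⟨homOfTop (CurveCoh17.hh0 M w), ?_⟩
  have he : homOfTop (CurveCoh17.hh0 M w) ≫ Formal.modPowπ I (0 + 1) M = φ ≫ T := by
    refine hom_ext_one _ _ ?_
    show (Formal.modPowπ I (0 + 1) M).app ⊤ ((homOfTop (CurveCoh17.hh0 M w)).app ⊤ _) = T.app ⊤ t
    rw [homOfTop_app_one]
    refine (CurveCoh17.hh0_hmap A (Formal.modPowπ I (0 + 1) M) w).symm.trans ?_
    refine (congrArg (CurveCoh17.hh0 _) hw).trans ?_
    refine (CurveCoh17.hh0_hmap A T ((CurveCoh17.hh0 _).symm t)).trans ?_
    rw [AddEquiv.apply_symm_apply]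
  rw [he]
  exact epi_comp _ _


/-- An invertible module trivial on all thickenings of a closed fibre is trivial. -/
theorem nonempty_iso_of_trivial_thickenings (I : Ideal A) (hI : I ≤ maximalIdeal A) {M : X.Modules}
    (hMi : PicF.IsInvertible M)
    (h : ∀ n : ℕ, Nonempty ((Scheme.Modules.pullback (iq (X ↘ Spec (CommRingCat.of A)) (I ^ (n + 1)))).obj M ≅
      Coh.structureModule (pullback (X ↘ Spec (CommRingCat.of A)) (spQ (I ^ (n + 1)))))) :
    Nonempty (M ≅ Coh.structureModule X) := by
  haveI : IsLocallyNoetherian X := LocallyOfFiniteType.isLocallyNoetherian (X ↘ Spec (CommRingCat.of A))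
  have hM : Coh.IsCoh M := CurveCoh17.isCoh_of_ofRank ((M2.isInvertible_iff_isFinLocFreeOfRank_one M).1 hMi)
  obtain ⟨σ, hσ⟩ := exists_hom_of_trivial I hM h
  let p : M ⟶ Formal.modPow I (0 + 1) M := Formal.modPowπ I (0 + 1) M
  have hd : IsIso (cokernel.desc (Formal.smulFamily (I ^ (0 + 1)) M) p (cokernel.condition _)) := by
    have : cokernel.desc (Formal.smulFamily (I ^ (0 + 1)) M) p (cokernel.condition _) = 𝟙 _ :=
      coequalizer.hom_ext ((cokernel.π_desc _ _ _).trans (Category.comp_id _).symm)
    rw [this]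
    exact IsIso.id _
  have hfib : ∀ x : X, (X ↘ Spec (CommRingCat.of A)) x = closedPoint A →
      Function.Surjective ((M1.stalkAb x).map σ) := by
    intro x hx
    haveI := M1.finite_stalk hM.1 hM.2 x
    let R := LinearMap.range (PicH1_21.stMapL σ x)
    have hle : (⊤ : Submodule (X.presheaf.stalk x) (M.presheaf.stalk x : Type u)) ≤
        R ⊔ FormalH7.stalkIdeal (I ^ (0 + 1)) x • ⊤ := by
      intro b _
      obtain ⟨a, ha⟩ := (M1.epi_iff_stalk (σ ≫ p)).1 hσ x ((M1.stalkAb x).map p b)
      let c : (M.presheaf.stalk x : Type u) := (M1.stalkAb x).map σ a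
      refine Submodule.mem_sup.2 ⟨c, ⟨a, rfl⟩, b - c, ?_, ?_⟩
      · refine FormalH7.mem_stalk_of_map_eq_zero p (cokernel.condition _) hd x _ ?_
        rw [map_sub, sub_eq_zero, ← ha, Functor.map_comp]
        rfl
      · exact add_sub_cancel _ b
    have hJ : FormalH7.stalkIdeal (I ^ (0 + 1)) x ≤ maximalIdeal (X.presheaf.stalk x) := by
      rw [zero_add, pow_one, FormalH7.stalkIdeal, Ideal.map_le_iff_le_comap]
      intro a ha hu
      have h1 : x ∈ X.basicOpen (show Γ(X, ⊤) from FormalH7.multHom X ⊤ a) :=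
        (X.mem_basicOpen (FormalH7.multHom X ⊤ a) x trivial).2 hu
      rw [FormalH7.multHom_apply, show FormalH7.mult X a ⊤ = Coh.toGlobal (X ↘ Spec (CommRingCat.of A)) a by
        simp [FormalH7.mult]] at h1
      have h2 : X.basicOpen (show Γ(X, ⊤) from Coh.toGlobal (X ↘ Spec (CommRingCat.of A)) a) =
          (X ↘ Spec (CommRingCat.of A)) ⁻¹ᵁ PrimeSpectrum.basicOpen a := by
        rw [← basicOpen_eq_of_affine (R := CommRingCat.of A) a, Scheme.preimage_basicOpen]
        rfl
      rw [h2] at h1
      change a ∉ ((X ↘ Spec (CommRingCat.of A)) x).asIdeal at h1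
      rw [hx] at h1
      exact h1 (hI ha)
    have hR : (⊤ : Submodule (X.presheaf.stalk x) (M.presheaf.stalk x : Type u)) ≤ R :=
      Submodule.le_of_le_smul_of_le_jacobson_bot Module.Finite.fg_top
        (by rw [IsLocalRing.jacobson_eq_maximalIdeal ⊥ bot_ne_top]; exact hJ) hle
    exact fun b => hR (x := (show (M.presheaf.stalk x : Type u) from b)) Submodule.mem_top
  haveI : Epi σ := by
    let Q := cokernel σ
    have hQ : CohB1.IsFT Q := M1.isFT_of_epi (cokernel.π σ) hM.2
    have hempty : CohB1.support Q = ∅ := by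
      by_contra hne
      obtain ⟨y, hy⟩ := Set.nonempty_iff_ne_empty.2 hne
      have hcl := (X ↘ Spec (CommRingCat.of A)).isClosedMap _ (M1.isClosed_support hQ)
      obtain ⟨x, hx, hxc⟩ := (specializes_closedPoint ((X ↘ Spec (CommRingCat.of A)) y)).mem_closed
        hcl ⟨y, hy, rfl⟩
      refine (M1.notMem_support_iff Q x).2 (fun q => ?_) hx
      obtain ⟨b, rfl⟩ := (M1.epi_iff_stalk (cokernel.π σ)).1 inferInstance x q
      obtain ⟨a, rfl⟩ := hfib x hxc b
      rw [← CategoryTheory.comp_apply, ← Functor.map_comp, cokernel.condition, Functor.map_zero]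
      rfl
    refine (M1.epi_iff_stalk σ).2 fun x b => ?_
    have hex := (M1.exact_iff_stalk_eq_zero (ShortComplex.mk σ (cokernel.π σ) (cokernel.condition σ))).1
      (ShortComplex.exact_cokernel σ) x b
    refine hex ((M1.notMem_support_iff Q x).1 ?_ _)
    rw [hempty]
    exact Set.notMem_empty x
  haveI : IsIso σ := by
    refine (M1.isIso_iff_stalk σ).2 fun x => ?_
    have hs := (M1.epi_iff_stalk σ).1 inferInstance x
    refine ⟨?_, hs⟩
    obtain ⟨e, he⟩ := PicH1_21.exists_isStGen hMi
    let E := LinearEquiv.ofBijective (LinearMap.toSpanSingleton (X.presheaf.stalk x) _ (e x)) (he x)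
    let O := LinearEquiv.ofBijective (LinearMap.toSpanSingleton (X.presheaf.stalk x) _
      ((Coh.structureModule X).presheaf.germ ⊤ x trivial (M1.one ⊤) : (Coh.structureModule X).presheaf.stalk x))
      (Cyc26.structureModule_stalk_bijective x)
    have hinj := OrzechProperty.injective_of_surjective_endomorphism
      (E.symm.toLinearMap ∘ₗ (PicH1_21.stMapL σ x) ∘ₗ O.toLinearMap)
      (E.symm.surjective.comp (Function.Surjective.comp (g := PicH1_21.stMapL σ x) hs O.surjective))
    intro a a' haa
    refine O.symm.injective (hinj ?_)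
    show E.symm (PicH1_21.stMapL σ x (O (O.symm a))) = E.symm (PicH1_21.stMapL σ x (O (O.symm a')))
    rw [O.apply_symm_apply, O.apply_symm_apply]
    exact congrArg E.symm haa
  exact ⟨(asIso σ).symm⟩

end Groth.Agent.FGA3
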