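import Groth.Agent.Lib.FGA3.SqZero
import Groth.Agent.Lib.EffCartier.Mul
import Groth.Agent.Lib.TensorMod.Invertible

/-!
# Roots of invertible modules along square zero thickenings
-/

set_option autoImplicit false
set_option linter.style.haveILetI false
set_option backward.isDefEq.respectTransparency false

universe u

open CategoryTheory CategoryTheory.Limits AlgebraicGeometry TopologicalSpace Opposite

namespace Groth.Agent.FGA3

variable {X : Scheme.{u}} {I : X.IdealSheafData}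

/-- An invertible integer acts bijectively on cohomology. -/
theorem bijective_nsmul_HH (M : X.Modules) (q : ℕ) {n : ℕ} (hn : IsUnit (n : Γ(X, ⊤))) :
    Function.Bijective fun x : Coh.HH X M q => n • x := by
  have h : IsUnit (n : Coh.Γtop X) := hn
  obtain ⟨v, hv⟩ := h
  refine Function.bijective_iff_has_inverse.2 ⟨fun x => (↑v⁻¹ : Coh.Γtop X) • x, fun x => ?_, fun x => ?_⟩
  · show (↑v⁻¹ : Coh.Γtop X) • n • x = x
    rw [← Nat.cast_smul_eq_nsmul (Coh.Γtop X), ← hv, smul_smul, Units.inv_mul, one_smul]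
  · show n • (↑v⁻¹ : Coh.Γtop X) • x = x
    rw [← Nat.cast_smul_eq_nsmul (Coh.Γtop X), ← hv, smul_smul, Units.mul_inv, one_smul]

attribute [local instance] M2.law in
theorem cls_tensorPow {L : X.Modules} (hL : PicF.IsInvertible L) (n : ℕ) :
    PicGrp.cls (CohB1.tensorPow L n) (M2.isInvertible_tensorPow hL n) = PicGrp.cls L hL ^ n :=
  Subtype.ext (by rw [PicGrp.cls_pow_val, PicGrp.cls_val])

attribute [local instance] M2.law in
/-- An `n`-th root modulo a square zero ideal lifts, for `n` invertible. -/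
theorem exists_root_lift (hI : I * I = ⊥) {n : ℕ} (hn : IsUnit (n : Γ(X, ⊤))) {L : X.Modules}
    (hL : PicF.IsInvertible L) {L₀ : I.subscheme.Modules} (hL₀ : PicF.IsInvertible L₀)
    (e : CohB1.tensorPow L₀ n ≅ (Scheme.Modules.pullback I.subschemeι).obj L) :
    ∃ M : X.Modules, PicF.IsInvertible M ∧ Nonempty (CohB1.tensorPow M n ≅ L) := by
  have hi : PicGrp.PullMul I.subschemeι := M2.pullMul _
  have h0 : PicGrp.pullHom I.subschemeι hi (PicGrp.cls L hL) = PicGrp.cls L₀ hL₀ ^ n := by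
    rw [PicGrp.pullHom_cls, ← cls_tensorPow]
    exact (PicGrp.cls_eq_cls_iff _ _).2 ⟨e.symm⟩
  have h1 : n • PicH1_21.δ₁Add hI (Additive.ofMul (PicGrp.cls L₀ hL₀)) = 0 := by
    rw [← map_nsmul, ← ofMul_pow]
    exact (PicH1_21.δ₁Add_eq_zero_iff hI hi _).2 ⟨_, h0⟩
  obtain ⟨d, hd⟩ := (PicH1_21.δ₁Add_eq_zero_iff hI hi (PicGrp.cls L₀ hL₀)).1
    ((bijective_nsmul_HH (ClSub.idealMod I) 2 hn).1 (h1.trans (smul_zero n).symm))
  obtain ⟨x, hx⟩ := (PicH1_21.pullHom_eq_one_iff hI hi (PicGrp.cls L hL / d ^ n)).1 (by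
    rw [map_div, map_pow, hd, h0, div_self'])
  obtain ⟨y, rfl⟩ := (bijective_nsmul_HH (ClSub.idealMod I) 1 hn).2 x
  obtain ⟨M, hM, hMc⟩ := PicGrp.exists_eq_cls (d * Additive.toMul (PicH1_21.αAdd hI y))
  refine ⟨M, hM, (PicGrp.cls_eq_cls_iff (M2.isInvertible_tensorPow hM n) hL).1 ?_⟩
  rw [cls_tensorPow hM, ← hMc, mul_pow]
  have hx' : Additive.toMul (PicH1_21.αAdd hI y) ^ n = PicGrp.cls L hL / d ^ n := by
    rw [← toMul_nsmul, ← map_nsmul]
    exact congrArg Additive.toMul hx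
  rw [hx', mul_div_cancel]

attribute [local instance] M2.law in
/-- The same, for a closed immersion with square zero ideal. -/
theorem exists_root_lift' {Y : Scheme.{u}} (p : Y ⟶ X) [IsClosedImmersion p] (hI : p.ker * p.ker = ⊥) {n : ℕ}
    (hn : IsUnit (n : Γ(X, ⊤))) {L : X.Modules} (hL : PicF.IsInvertible L) {L' : Y.Modules}
    (hL' : PicF.IsInvertible L') (e : CohB1.tensorPow L' n ≅ (Scheme.Modules.pullback p).obj L) :
    ∃ M : X.Modules, PicF.IsInvertible M ∧ Nonempty (CohB1.tensorPow M n ≅ L) := by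
  let t : Y ≅ p.ker.subscheme := asIso p.toImage
  have hL₀ := PicLoc.isInvertible_pullback t.inv hL'
  have ht : t.inv ≫ p = p.ker.subschemeι := by
    rw [Iso.inv_comp_eq]
    exact p.toImage_imageι.symm
  refine exists_root_lift hI hn hL hL₀ (Nonempty.some ?_)
  refine (PicGrp.cls_eq_cls_iff (M2.isInvertible_tensorPow hL₀ n) (PicLoc.isInvertible_pullback _ hL)).1 ?_
  rw [cls_tensorPow hL₀, ← PicGrp.pullHom_cls t.inv (M2.pullMul _) L' hL', ← map_pow, ← cls_tensorPow hL',
    (PicGrp.cls_eq_cls_iff (M2.isInvertible_tensorPow hL' n) (PicLoc.isInvertible_pullback p hL)).2 ⟨e⟩,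
    PicGrp.pullHom_cls]
  exact (PicGrp.cls_eq_cls_iff _ _).2 ⟨(Scheme.Modules.pullbackComp t.inv p).app L ≪≫
    (Scheme.Modules.pullbackCongr ht).app L⟩

end Groth.Agent.FGA3
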