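import Groth.Agent.Lib.FGA3.UnitsThick
import Groth.Agent.Lib.CohFound.Bridge
import Mathlib.RingTheory.Artinian.Module

/-!
# Cohomology of units along Artinian thickenings
-/

set_option autoImplicit false
set_option linter.style.haveILetI false
set_option backward.isDefEq.respectTransparency false

universe u

open CategoryTheory CategoryTheory.Limits AlgebraicGeometry TopologicalSpace Opposite

noncomputable section

namespace Groth.Agent.FGA3

variable {A : Type u} [CommRing A] {X : Scheme.{u}} (f : X ⟶ Spec (CommRingCat.of A))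

theorem isIso_comap {Y : Scheme.{u}} (g : Y ⟶ X) [IsIso g] : IsIso (UnitsSh.comap g) := by
  haveI : IsIso (UnitsSh.comap g).hom := by
    haveI : ∀ U, IsIso ((UnitsSh.comap g).hom.app U) := fun U => by
      haveI : IsIso (g.c.app U) := inferInstanceAs (IsIso (g.app U.unop))
      exact inferInstanceAs (IsIso (UnitsSh.unitsFunctor.map (g.c.app U)))
    exact NatIso.isIso_of_isIso_app _
  haveI : IsIso ((sheafToPresheaf (Opens.grothendieckTopology X.toTopCat) AddCommGrpCat.{u}).map (UnitsSh.comap g)) :=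
    ‹IsIso (UnitsSh.comap g).hom›
  exact isIso_of_fully_faithful (sheafToPresheaf _ _) _

theorem isIso_cJ_bot : IsIso (cJ f (⊥ : Ideal A)) := by
  haveI : IsIso (CommRingCat.ofHom (Ideal.Quotient.mk (⊥ : Ideal A))) :=
    (ConcreteCategory.isIso_iff_bijective _).2
      ⟨(RingHom.injective_iff_ker_eq_bot _).2 (Ideal.mk_ker (I := (⊥ : Ideal A))), Ideal.Quotient.mk_surjective⟩
  haveI : IsIso (spQ (⊥ : Ideal A)) := inferInstanceAs (IsIso (Spec.map _))
  exact isIso_comap _

/-- Cohomology of the graded piece. -/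
theorem subsingleton_hc_push (m : Ideal A) (n : ℕ)
    [Subsingleton (Coh.HH (pullback f (spQ m)) (Coh.structureModule _) n)] {S : CohTop.Ab X.toTopCat}
    (e : S ≅ (CohTop.push (iq f m).base).obj (Coh.toAb (Coh.structureModule (pullback f (spQ m))))) :
    Subsingleton (CohFound.Hc S n ⊤) := by
  haveI := M1.isQCoh_structureModule (pullback f (spQ m))
  obtain ⟨e'⟩ := CohFound.nonempty_hc_push_isAffineHom (iq f m) (Coh.structureModule (pullback f (spQ m))) n ⊤
  haveI : Subsingleton (CohFound.Hc ((CohFound.abF (pullback f (spQ m))).obj (Coh.structureModule _)) n (iq f m ⁻¹ᵁ ⊤)) :=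
    (CohFound.hhExt (Coh.structureModule (pullback f (spQ m))) n).symm.toEquiv.subsingleton
  exact ((CohFound.mpEquiv (e ≪≫ (CohFound.abFPushIso (iq f m) (Coh.structureModule _)).symm) n ⊤).trans e').toEquiv.subsingleton

section Step

variable [Flat f] {J J' : Ideal A} {t : A} {m : Ideal A} (hJ : J = J' ⊔ Ideal.span {t}) (ht : t * t ∈ J')
  (hm : Submodule.colon J' ({t} : Set A) = m) (hn : IsNilpotent J) {q : ℕ}

include hJ ht hm hn

theorem surjective_step [Subsingleton (Coh.HH (pullback f (spQ m)) (Coh.structureModule _) (q + 1))]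
    (h : Function.Surjective (CohFound.mp (cJ f J') q ⊤)) : Function.Surjective (CohFound.mp (cJ f J) q ⊤) := fun y => by
  obtain ⟨S, hS, ⟨e⟩, e₂, e₃, he⟩ := exists_step f hJ ht hm hn
  haveI := subsingleton_hc_push f m (q + 1) e
  obtain ⟨z, hz⟩ := CohFound.exact₃ hS q ⊤ (CohFound.mp e₃.hom q ⊤ y) (Subsingleton.elim _ _)
  obtain ⟨x, hx⟩ := h (CohFound.mp e₂.inv q ⊤ z)
  refine ⟨x, (CohFound.mpEquiv e₃ q ⊤).injective ?_⟩
  show CohFound.mp e₃.hom q ⊤ _ = CohFound.mp e₃.hom q ⊤ y
  rw [← hz, ← CohFound.mp_comp, ← he, CohFound.mp_comp, CohFound.mp_comp, hx, ← CohFound.mp_comp e₂.inv, e₂.inv_hom_id,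
    CohFound.mp_id]

theorem injective_step [Subsingleton (Coh.HH (pullback f (spQ m)) (Coh.structureModule _) q)]
    (h : Function.Injective (CohFound.mp (cJ f J') q ⊤)) : Function.Injective (CohFound.mp (cJ f J) q ⊤) := by
  obtain ⟨S, hS, ⟨e⟩, e₂, e₃, he⟩ := exists_step f hJ ht hm hn
  haveI := subsingleton_hc_push f m q e
  refine (injective_iff_map_eq_zero _).2 fun x hx => ?_
  have hg : CohFound.mp S.g q ⊤ (CohFound.mp e₂.hom q ⊤ (CohFound.mp (cJ f J') q ⊤ x)) = 0 := by
    rw [← CohFound.mp_comp, ← CohFound.mp_comp, he, CohFound.mp_comp, hx, map_zero]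
  obtain ⟨y, hy⟩ := CohFound.exact₂ hS q ⊤ _ hg
  rw [Subsingleton.elim y 0, map_zero] at hy
  refine h (((CohFound.mpEquiv e₂ q ⊤).injective ?_).trans (map_zero _).symm)
  show CohFound.mp e₂.hom q ⊤ _ = CohFound.mp e₂.hom q ⊤ 0
  rw [← hy, map_zero]

end Step

section Artin

variable [IsLocalRing A] [IsArtinianRing A] [Flat f] {q : ℕ}

open IsLocalRing in
/-- Induction along ideals of an Artinian local ring. -/
theorem ideal_induction {P : Ideal A → Prop} (h0 : P ⊥)
    (hstep : ∀ (J J' : Ideal A) (t : A), J = J' ⊔ Ideal.span {t} → t * t ∈ J' →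
      Submodule.colon J' ({t} : Set A) = maximalIdeal A → IsNilpotent J → P J' → P J)
    (J : Ideal A) (hJ : J ≤ maximalIdeal A) : P J := by
  obtain ⟨N, hN⟩ := IsArtinianRing.isNilpotent_jacobson_bot (R := A)
  rw [IsLocalRing.jacobson_eq_maximalIdeal _ bot_ne_top] at hN
  induction J using WellFoundedLT.induction with
  | _ J ih =>
    by_cases hJ0 : J = ⊥
    · rwa [hJ0]
    have hne : maximalIdeal A * J ≠ J := fun h => hJ0 (by
      have hp : ∀ n, maximalIdeal A ^ n * J = J := fun n => by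
        induction n with
        | zero => rw [pow_zero, Ideal.one_eq_top, Ideal.top_mul]
        | succ n ihn => rw [pow_succ, mul_assoc, h, ihn]
      rw [← hp N, hN]
      exact Ideal.bot_mul J)
    obtain ⟨J', ⟨hmJ', hJ'J⟩, hmax⟩ := set_has_maximal_iff_noetherian.2 inferInstance
      {K : Ideal A | maximalIdeal A * J ≤ K ∧ K < J} ⟨_, le_rfl, lt_of_le_of_ne Ideal.mul_le_right hne⟩
    obtain ⟨t, htJ, htJ'⟩ := SetLike.exists_of_lt hJ'J
    have hsup : J = J' ⊔ Ideal.span {t} := by
      refine le_antisymm ?_ (sup_le hJ'J.le ((Ideal.span_singleton_le_iff_mem J).2 htJ))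
      by_contra hcon
      refine hmax (J' ⊔ Ideal.span {t}) ⟨hmJ'.trans le_sup_left, lt_of_le_of_ne
        (sup_le hJ'J.le ((Ideal.span_singleton_le_iff_mem J).2 htJ)) fun h => hcon h.ge⟩ ?_
      exact lt_of_le_of_ne le_sup_left fun h => htJ' (h ▸ Ideal.mem_sup_right (Ideal.mem_span_singleton_self t))
    have hcol : Submodule.colon J' ({t} : Set A) = maximalIdeal A := by
      refine ((IsLocalRing.maximalIdeal.isMaximal A).eq_of_le ?_ fun a ha =>
        Submodule.mem_colon_singleton.2 (hmJ' (Ideal.mul_mem_mul ha htJ))).symm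
      intro h
      exact htJ' (by simpa using Submodule.mem_colon_singleton.1 (h.ge (Submodule.mem_top (x := (1 : A)))))
    exact hstep J J' t hsup (hmJ' (Ideal.mul_mem_mul (hJ htJ) htJ)) hcol
      ⟨N, le_bot_iff.1 ((Ideal.pow_right_mono hJ N).trans hN.le)⟩ (ih J' hJ'J (hJ'J.le.trans hJ))

theorem surjective_mp_cJ [Subsingleton (Coh.HH (pullback f (spQ (IsLocalRing.maximalIdeal A))) (Coh.structureModule _) (q + 1))]
    (J : Ideal A) (hJ : J ≤ IsLocalRing.maximalIdeal A) : Function.Surjective (CohFound.mp (cJ f J) q ⊤) :=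
  ideal_induction (P := fun J => Function.Surjective (CohFound.mp (cJ f J) q ⊤))
    (haveI := isIso_cJ_bot f; (CohFound.mpEquiv (asIso (cJ f ⊥)) q ⊤).surjective)
    (fun _ _ _ h1 h2 h3 h4 h => surjective_step f h1 h2 h3 h4 h) J hJ

theorem injective_mp_cJ [Subsingleton (Coh.HH (pullback f (spQ (IsLocalRing.maximalIdeal A))) (Coh.structureModule _) q)]
    (J : Ideal A) (hJ : J ≤ IsLocalRing.maximalIdeal A) : Function.Injective (CohFound.mp (cJ f J) q ⊤) :=
  ideal_induction (P := fun J => Function.Injective (CohFound.mp (cJ f J) q ⊤))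
    (haveI := isIso_cJ_bot f; (CohFound.mpEquiv (asIso (cJ f ⊥)) q ⊤).injective)
    (fun _ _ _ h1 h2 h3 h4 h => injective_step f h1 h2 h3 h4 h) J hJ

theorem subsingleton_H_kernel [hv : Subsingleton (Coh.HH (pullback f (spQ (IsLocalRing.maximalIdeal A))) (Coh.structureModule _) q)]
    (J : Ideal A) (hJ : J ≤ IsLocalRing.maximalIdeal A) :
    Subsingleton (CohTop.H (kernel (cJ f J)) q) := by
  obtain ⟨N, hN⟩ := IsArtinianRing.isNilpotent_jacobson_bot (R := A)
  rw [IsLocalRing.jacobson_eq_maximalIdeal _ bot_ne_top] at hN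
  haveI := epi_cJ f (J := J) ⟨N, le_bot_iff.1 ((Ideal.pow_right_mono hJ N).trans hN.le)⟩
  let S := ShortComplex.mk (kernel.ι (cJ f J)) (cJ f J) (kernel.condition _)
  have hS : S.ShortExact := { exact := ShortComplex.exact_of_f_is_kernel _ (kernelIsKernel _) }
  haveI : Subsingleton (CohFound.Hc (kernel (cJ f J)) q ⊤) := by
    refine subsingleton_of_forall_eq 0 fun x => ?_
    have hy : CohFound.mp S.f q ⊤ x = 0 := injective_mp_cJ f J hJ (by
      rw [map_zero]
      refine (CohFound.mp_comp S.f S.g q ⊤ x).symm.trans ?_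
      rw [S.zero, CohFound.mp_zero])
    cases q with
    | zero => exact CohFound.mp_f_injective hS ⊤ (hy.trans (map_zero _).symm)
    | succ q =>
      obtain ⟨z, rfl⟩ := CohFound.exact₁ hS q ⊤ x hy
      obtain ⟨w, rfl⟩ := surjective_mp_cJ f J hJ z
      exact CohFound.delta_mp hS q ⊤ w
  exact (CohFound.hExt (kernel (cJ f J)) q).toEquiv.subsingleton

end Artin

/-- Surjectivity on `H^q` of the comparison map, in `Sheaf.H` form. -/
theorem surjective_H_map {F G : CohTop.Ab X.toTopCat} (φ : F ⟶ G) (q : ℕ)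
    (h : Function.Surjective (CohFound.mp φ q ⊤)) : Function.Surjective (Sheaf.H.map φ q) := fun y => by
  obtain ⟨x, hx⟩ := h (CohFound.hExt G q y)
  refine ⟨(CohFound.hExt F q).symm x, (CohFound.hExt G q).injective ?_⟩
  refine (CohFound.hExt_map φ q _).trans ?_
  rw [AddEquiv.apply_symm_apply, hx]

end Groth.Agent.FGA3
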