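import Groth.Agent.Lib.PicH1_21.Thickening
import Groth.Agent.Lib.EffCartier.Mul
import Groth.Agent.Lib.CohFound.AffMor
import Groth.Agent.Lib.CohFound.HHBridge
import Groth.Prelude.Def_Coh
import Mathlib.RingTheory.Flat.Basic
import Mathlib.AlgebraicGeometry.Morphisms.Flat

/-!
# Units of flat schemes along nilpotent thickenings of the base
-/

set_option autoImplicit false
set_option linter.style.haveILetI false
set_option backward.isDefEq.respectTransparency false

universe u

open CategoryTheory CategoryTheory.Limits AlgebraicGeometry TopologicalSpace Opposite TensorProduct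

noncomputable section

namespace Groth.Agent.FGA3

theorem mul_mem_map_iff {A B : Type u} [CommRing A] [CommRing B] [Algebra A B] [Module.Flat A B]
    (J' : Ideal A) (t : A) (b : B) :
    algebraMap A B t * b ∈ J'.map (algebraMap A B) ↔
      b ∈ (Submodule.colon J' ({t} : Set A)).map (algebraMap A B) := by
  constructor
  · intro h
    let g : A →ₗ[A] A ⧸ J' := (Ideal.Quotient.mkₐ A J').toLinearMap.comp (LinearMap.mulLeft A t)
    have hg : Function.Exact (LinearMap.ker g).subtype g := LinearMap.exact_subtype_ker_map g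
    have hT := Module.Flat.lTensor_exact B hg
    have hz : g.lTensor B (b ⊗ₜ[A] (1 : A)) = 0 := by
      show b ⊗ₜ[A] g 1 = 0
      have h2 : b ⊗ₜ[A] g 1 = (algebraMap A B t * b) ⊗ₜ[A] (1 : A ⧸ J') := by
        show b ⊗ₜ[A] Ideal.Quotient.mk J' (t * 1) = _
        rw [mul_one, show Ideal.Quotient.mk J' t = t • (1 : A ⧸ J') from by
          rw [Algebra.smul_def, mul_one]; rfl, TensorProduct.tmul_smul, TensorProduct.smul_tmul', Algebra.smul_def]
      rw [h2]
      refine Submodule.mem_bot A |>.1 ?_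
      generalize algebraMap A B t * b = x at h ⊢
      induction h using Submodule.span_induction with
      | mem x hx =>
        obtain ⟨a, ha, rfl⟩ := hx
        rw [Submodule.mem_bot, show algebraMap A B a = a • (1 : B) from by rw [Algebra.smul_def, mul_one],
          TensorProduct.smul_tmul, show a • (1 : A ⧸ J') = 0 from by
            rw [Algebra.smul_def, mul_one]; exact Ideal.Quotient.eq_zero_iff_mem.2 ha, TensorProduct.tmul_zero]
      | zero => rw [Submodule.mem_bot, TensorProduct.zero_tmul]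
      | add x y _ _ hx hy =>
        rw [Submodule.mem_bot] at hx hy ⊢
        rw [TensorProduct.add_tmul, hx, hy, add_zero]
      | smul c x _ hx =>
        rw [Submodule.mem_bot] at hx ⊢
        have := congrArg (LinearMap.rTensor (A ⧸ J') (LinearMap.mulLeft A c)) hx
        rw [map_zero] at this
        exact this
    obtain ⟨z, hz⟩ := (hT _).1 hz
    have hb : b = TensorProduct.rid A B ((LinearMap.ker g).subtype.lTensor B z) := by
      rw [hz, TensorProduct.rid_tmul, one_smul]
    rw [hb]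
    clear hz hb
    induction z using TensorProduct.induction_on with
    | zero => simp
    | tmul x a =>
      rw [LinearMap.lTensor_tmul, TensorProduct.rid_tmul, Algebra.smul_def]
      refine Ideal.mul_mem_right _ _ (Ideal.mem_map_of_mem _ (Submodule.mem_colon_singleton.2 ?_))
      have ha : Ideal.Quotient.mk J' (t * a.1) = 0 := a.2
      rw [smul_eq_mul, mul_comm]
      exact Ideal.Quotient.eq_zero_iff_mem.1 ha
    | add x y hx hy => rw [map_add, map_add]; exact add_mem hx hy
  · intro h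
    induction h using Submodule.span_induction with
    | mem x hx =>
      obtain ⟨a, ha, rfl⟩ := hx
      rw [← map_mul, mul_comm]
      exact Ideal.mem_map_of_mem _ (Submodule.mem_colon_singleton.1 ha)
    | zero => simp
    | add x y _ _ hx hy => rw [mul_add]; exact add_mem hx hy
    | smul c x _ hx => rw [smul_eq_mul, mul_left_comm]; exact Ideal.mul_mem_left _ _ hx

variable {A : Type u} [CommRing A] {X : Scheme.{u}} (f : X ⟶ Spec (CommRingCat.of A))

/-- `Spec A/J → Spec A`. -/
abbrev spQ (J : Ideal A) : Spec (CommRingCat.of (A ⧸ J)) ⟶ Spec (CommRingCat.of A) :=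
  Spec.map (CommRingCat.ofHom (Ideal.Quotient.mk J))

instance isClosedImmersion_spQ (J : Ideal A) : IsClosedImmersion (spQ J) :=
  IsClosedImmersion.spec_of_surjective _ Ideal.Quotient.mk_surjective

/-- `X ⊗ A/J → X`. -/
abbrev iq (J : Ideal A) : pullback f (spQ J) ⟶ X := pullback.fst f (spQ J)

/-- The structure map on sections. -/
def ψ (W : X.Opens) : A →+* Γ(X, W) :=
  ((f.appLE ⊤ W le_top).hom).comp (Scheme.ΓSpecIso (CommRingCat.of A)).inv.hom

theorem ψ_res {V W : X.Opens} (h : V ≤ W) (a : A) : X.presheaf.map (homOfLE h).op (ψ f W a) = ψ f V a := by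
  show (f.appLE ⊤ W le_top ≫ X.presheaf.map (homOfLE h).op) ((Scheme.ΓSpecIso (CommRingCat.of A)).inv a) = _
  rw [Scheme.Hom.appLE_map]
  rfl

theorem ideal_ker_spQ (J : Ideal A) :
    (spQ J).ker.ideal ⟨⊤, isAffineOpen_top _⟩ = J.map (Scheme.ΓSpecIso (CommRingCat.of A)).inv.hom := by
  let e := (Scheme.ΓSpecIso (CommRingCat.of A)).commRingCatIsoToRingEquiv
  rw [Scheme.Hom.ker_apply]
  refine Eq.trans ?_ (Ideal.map_comap_of_equiv (e.symm) (I := J)).symm
  ext a
  rw [RingHom.mem_ker, Ideal.mem_comap]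
  have h := ConcreteCategory.congr_hom (Scheme.ΓSpecIso_naturality (CommRingCat.ofHom (Ideal.Quotient.mk J))) a
  show (spQ J).app ⊤ a = 0 ↔ (Scheme.ΓSpecIso (CommRingCat.of A)).hom a ∈ J
  rw [← Ideal.Quotient.eq_zero_iff_mem]
  refine Iff.trans ?_ (Iff.of_eq (congrArg (· = 0) h))
  exact ((Scheme.ΓSpecIso (CommRingCat.of (A ⧸ J))).commRingCatIsoToRingEquiv.map_eq_zero_iff (x := (spQ J).app ⊤ a)).symm

theorem ideal_ker_iq (J : Ideal A) (W : X.affineOpens) : (iq f J).ker.ideal W = J.map (ψ f W.1) := by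
  rw [Scheme.IdealSheafData.ker_fst_of_isClosedImmersion,
    EffCartier.comap_ideal _ f ⟨⊤, isAffineOpen_top _⟩ W le_top, ideal_ker_spQ, Ideal.map_map]
  rfl

theorem iq_app_eq_zero_iff (J : Ideal A) (W : X.affineOpens) (b : Γ(X, W.1)) :
    (iq f J).app W.1 b = 0 ↔ b ∈ J.map (ψ f W.1) := by
  rw [← ideal_ker_iq, Scheme.Hom.ker_apply]
  rfl

theorem iq_app_eq_zero_mono {J J' : Ideal A} (h : J' ≤ J) (U : X.Opens) (b : Γ(X, U))
    (hb : (iq f J').app U b = 0) : (iq f J).app U b = 0 := by
  refine TopCat.Presheaf.section_ext (pullback f (spQ J)).sheaf _ _ _ fun z hz => ?_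
  obtain ⟨W, hW, hzW, hWU'⟩ := exists_isAffineOpen_mem_and_subset (show iq f J z ∈ U from hz)
  have hWU : W ≤ U := hWU'
  have h1 : (iq f J).app W (X.presheaf.map (homOfLE hWU).op b) = 0 := by
    refine (iq_app_eq_zero_iff f J ⟨W, hW⟩ _).2 (Ideal.map_mono h ((iq_app_eq_zero_iff f J' ⟨W, hW⟩ _).1 ?_))
    exact (NatTrans.naturality_apply (iq f J').c (homOfLE hWU).op b).trans ((congrArg _ hb).trans (map_zero _))
  have h2 := NatTrans.naturality_apply (iq f J).c (homOfLE hWU).op b
  refine (TopCat.Presheaf.germ_res_apply _ (homOfLE ((iq f J).preimage_mono hWU)) z hzW _).symm.trans ?_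
  refine (congrArg _ (h2.symm.trans h1)).trans ?_
  exact (map_zero _).trans (map_zero ((pullback f (spQ J)).presheaf.germ (iq f J ⁻¹ᵁ U) z hz).hom).symm

/-- The direct image of the units of `X ⊗ A/J`. -/
abbrev G (J : Ideal A) : CohTop.Ab X.toTopCat :=
  (CohTop.push (iq f J).base).obj (UnitsSh.unitsAb (pullback f (spQ J)))

/-- The restriction of units. -/
abbrev cJ (J : Ideal A) : UnitsSh.unitsAb X ⟶ G f J := UnitsSh.comap (iq f J)

theorem exists_unit_lift {J : Ideal A} (hJ : IsNilpotent J) (W : X.affineOpens) (s : (G f J).obj.obj (op W.1)) :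
    ∃ u, (cJ f J).hom.app (op W.1) u = s := by
  let t : Γ(pullback f (spQ J), iq f J ⁻¹ᵁ W.1)ˣ := UnitsSh.unitOfSect (O := (pullback f (spQ J)).presheaf) s
  obtain ⟨b, hb⟩ := (iq f J).app_surjective W.1 W.2 t.val
  obtain ⟨c, hc⟩ := (iq f J).app_surjective W.1 W.2 t.inv
  obtain ⟨N, hN⟩ := hJ
  have h1 : b * c - 1 ∈ J.map (ψ f W.1) := by
    rw [← iq_app_eq_zero_iff, map_sub, map_mul, map_one, hb, hc, t.val_inv, sub_self]
  have hnil : IsNilpotent (b * c - 1) := ⟨N, by
    have := Ideal.pow_mem_pow h1 N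
    rw [← Ideal.map_pow, hN] at this
    simpa using this⟩
  have hu : IsUnit b := isUnit_of_mul_isUnit_left (y := c) (by simpa using hnil.isUnit_one_add)
  exact ⟨UnitsSh.sectOfUnit (O := X.presheaf) hu.unit, congrArg Additive.ofMul (Units.ext hb)⟩

theorem epi_cJ {J : Ideal A} (hJ : IsNilpotent J) : Epi (cJ f J) := by
  haveI : Sheaf.IsLocallySurjective (cJ f J) := ⟨fun {U} s x hx => by
    obtain ⟨W, hW, hxW, hWU'⟩ := exists_isAffineOpen_mem_and_subset hx
    have hWU : W ≤ U := hWU'
    obtain ⟨u, hu⟩ := exists_unit_lift f hJ ⟨W, hW⟩ ((G f J).obj.map (homOfLE hWU).op s)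
    exact ⟨W, homOfLE hWU, ⟨u, hu⟩, hxW⟩⟩
  exact (Sheaf.isLocallySurjective_iff_epi' _ (cJ f J)).1 inferInstance

theorem cJ_eq_zero_iff (J : Ideal A) (U : X.Opens) (u : (UnitsSh.unitsAb X).obj.obj (op U)) :
    (cJ f J).hom.app (op U) u = 0 ↔ (iq f J).app U ((UnitsSh.unitOfSect (O := X.presheaf) u).val - 1) = 0 := by
  rw [map_sub, map_one, sub_eq_zero]
  exact ⟨fun h => congrArg (fun t : Additive Γ(pullback f (spQ J), iq f J ⁻¹ᵁ U)ˣ => (Additive.toMul t).val) h,
    fun h => congrArg Additive.ofMul (Units.ext h)⟩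

/-- Reduction from `A/J'` to `A/J`. -/
theorem exists_τ {J J' : Ideal A} (h : J' ≤ J) (hJ' : IsNilpotent J') : ∃ τ : G f J' ⟶ G f J, cJ f J' ≫ τ = cJ f J := by
  haveI := epi_cJ f hJ'
  refine ⟨Abelian.epiDesc (cJ f J') (cJ f J) ?_, Abelian.comp_epiDesc _ _ _⟩
  apply Sheaf.hom_ext
  ext U s
  show (cJ f J).hom.app U ((kernel.ι (cJ f J')).hom.app U s) = 0
  refine (cJ_eq_zero_iff f J U.unop _).2 (iq_app_eq_zero_mono f h _ _ ((cJ_eq_zero_iff f J' U.unop _).1 ?_))
  exact congr($(kernel.condition (cJ f J')).hom.app U s)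

section Step

variable [Flat f] {J J' : Ideal A} {t : A} {m : Ideal A}

theorem ψ_sq (hJ : J = J' ⊔ Ideal.span {t}) (ht : t * t ∈ J') (U : X.Opens) :
    (iq f J').app U (ψ f U t) * (iq f J').app U (ψ f U t) = 0 := by
  rw [← map_mul, ← map_mul]
  refine TopCat.Presheaf.section_ext (pullback f (spQ J')).sheaf _ _ _ fun z hz => ?_
  obtain ⟨W, hW, hzW, hWU'⟩ := exists_isAffineOpen_mem_and_subset (show iq f J' z ∈ U from hz)
  have hWU : W ≤ U := hWU'
  have h1 : (iq f J').app W (X.presheaf.map (homOfLE hWU).op (ψ f U (t * t))) = 0 := by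
    rw [ψ_res]
    exact (iq_app_eq_zero_iff f J' ⟨W, hW⟩ _).2 (Ideal.mem_map_of_mem _ ht)
  have h2 := NatTrans.naturality_apply (iq f J').c (homOfLE hWU).op (ψ f U (t * t))
  refine (TopCat.Presheaf.germ_res_apply _ (homOfLE ((iq f J').preimage_mono hWU)) z hzW _).symm.trans ?_
  refine (congrArg _ (h2.symm.trans h1)).trans ?_
  exact (map_zero _).trans (map_zero ((pullback f (spQ J')).presheaf.germ (iq f J' ⁻¹ᵁ U) z hz).hom).symm

/-- `b ↦ 1 + t b`. -/
def nuUnit (hJ : J = J' ⊔ Ideal.span {t}) (ht : t * t ∈ J') (U : X.Opens) (b : Γ(X, U)) :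
    Γ(pullback f (spQ J'), iq f J' ⁻¹ᵁ U)ˣ where
  val := 1 + (iq f J').app U (ψ f U t) * (iq f J').app U b
  inv := 1 - (iq f J').app U (ψ f U t) * (iq f J').app U b
  val_inv := by linear_combination -((iq f J').app U b * (iq f J').app U b) * ψ_sq f hJ ht U
  inv_val := by linear_combination -((iq f J').app U b * (iq f J').app U b) * ψ_sq f hJ ht U

/-- `O → G J'`. -/
def nu (hJ : J = J' ⊔ Ideal.span {t}) (ht : t * t ∈ J') : Coh.toAb (Coh.structureModule X) ⟶ G f J' :=
  ⟨{ app := fun U => AddCommGrpCat.ofHom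
      { toFun := fun b => UnitsSh.sectOfUnit (O := (pullback f (spQ J')).presheaf) (nuUnit f hJ ht U.unop b)
        map_zero' := congrArg Additive.ofMul (Units.ext (show (1 : Γ(pullback f (spQ J'), iq f J' ⁻¹ᵁ U.unop)) +
          (iq f J').app U.unop (ψ f U.unop t) * (iq f J').app U.unop (0 : Γ(X, U.unop)) = 1 by
            rw [map_zero, mul_zero, add_zero]))
        map_add' := fun a b => congrArg Additive.ofMul (Units.ext (show
          (1 : Γ(pullback f (spQ J'), iq f J' ⁻¹ᵁ U.unop)) + _ * (iq f J').app U.unop ((show Γ(X, U.unop) from a) + (show Γ(X, U.unop) from b)) =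
            (1 + _ * (iq f J').app U.unop (show Γ(X, U.unop) from a)) * (1 + _ * (iq f J').app U.unop (show Γ(X, U.unop) from b)) by
            rw [map_add]
            linear_combination -((iq f J').app U.unop (show Γ(X, U.unop) from a) *
              (iq f J').app U.unop (show Γ(X, U.unop) from b)) * ψ_sq f hJ ht U.unop)) }
     naturality := fun U V k => by
      ext b
      refine congrArg Additive.ofMul (Units.ext ?_)
      show 1 + (iq f J').app V.unop (ψ f V.unop t) * (iq f J').app V.unop (X.presheaf.map k (show Γ(X, U.unop) from b)) =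
        (pullback f (spQ J')).presheaf.map _ (1 + (iq f J').app U.unop (ψ f U.unop t) * (iq f J').app U.unop (show Γ(X, U.unop) from b))
      rw [map_add, map_one, map_mul]
      congr 2
      · rw [← ψ_res f k.unop.le]
        exact NatTrans.naturality_apply (iq f J').c k (ψ f U.unop t)
      · exact NatTrans.naturality_apply (iq f J').c k (show Γ(X, U.unop) from b) }⟩

/-- Restriction of functions to `X ⊗ A/m`. -/
def resM (f : X ⟶ Spec (CommRingCat.of A)) (m : Ideal A) : Coh.toAb (Coh.structureModule X) ⟶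
    (CohTop.push (iq f m).base).obj (Coh.toAb (Coh.structureModule (pullback f (spQ m)))) :=
  ⟨{ app := fun U => AddCommGrpCat.ofHom ((iq f m).app U.unop).hom.toAddMonoidHom
     naturality := fun U W k => by
      ext b
      exact NatTrans.naturality_apply (iq f m).c k b }⟩

theorem epi_resM (f : X ⟶ Spec (CommRingCat.of A)) (m : Ideal A) : Epi (resM f m) := by
  haveI : Sheaf.IsLocallySurjective (resM f m) := ⟨fun {U} s x hx => by
    obtain ⟨W, hW, hxW, hWU'⟩ := exists_isAffineOpen_mem_and_subset hx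
    have hWU : W ≤ U := hWU'
    obtain ⟨u, hu⟩ := (iq f m).app_surjective W hW
      (((CohTop.push (iq f m).base).obj (Coh.toAb (Coh.structureModule (pullback f (spQ m))))).obj.map (homOfLE hWU).op s)
    exact ⟨W, homOfLE hWU, ⟨u, hu⟩, hxW⟩⟩
  exact (Sheaf.isLocallySurjective_iff_epi' _ (resM f m)).1 inferInstance

theorem nu_eq_zero_iff (hJ : J = J' ⊔ Ideal.span {t}) (ht : t * t ∈ J') (hm : Submodule.colon J' ({t} : Set A) = m)
    (W : X.affineOpens) (b : Γ(X, W.1)) :
    (nu f hJ ht).hom.app (op W.1) b = 0 ↔ (iq f m).app W.1 b = 0 := by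
  letI := (ψ f W.1).toAlgebra
  haveI : Module.Flat A Γ(X, W.1) := by
    have h1 := HasRingHomProperty.appLE @Flat f inferInstance ⟨⊤, isAffineOpen_top _⟩ W le_top
    exact RingHom.Flat.comp
      (RingHom.Flat.of_bijective (Scheme.ΓSpecIso (CommRingCat.of A)).symm.commRingCatIsoToRingEquiv.bijective) h1
  rw [iq_app_eq_zero_iff, ← hm, show ψ f W.1 = algebraMap A Γ(X, W.1) from rfl, ← mul_mem_map_iff,
    show algebraMap A Γ(X, W.1) = ψ f W.1 from rfl, ← iq_app_eq_zero_iff, map_mul]
  constructor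
  · intro h
    have h1 : 1 + (iq f J').app W.1 (ψ f W.1 t) * (iq f J').app W.1 b = 1 :=
      congrArg (fun s : Additive Γ(pullback f (spQ J'), iq f J' ⁻¹ᵁ W.1)ˣ => (Additive.toMul s).val) h
    exact add_eq_left.1 h1
  · intro h
    refine congrArg Additive.ofMul (Units.ext ?_)
    show 1 + (iq f J').app W.1 (ψ f W.1 t) * (iq f J').app W.1 b = 1
    rw [h, add_zero]

theorem zero_of_locally {F : CohTop.Ab X.toTopCat} {U : X.Opens} {s : F.obj.obj (op U)}
    (h : ∀ W (hW : IsAffineOpen W) (hWU : W ≤ U), F.obj.map (homOfLE hWU).op s = 0) : s = 0 := by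
  choose W hW hxW hWU using fun x : U => exists_isAffineOpen_mem_and_subset x.2
  refine TopCat.Sheaf.eq_of_locally_eq' F W U (fun x => homOfLE (hWU x))
    (fun y hy => Opens.mem_iSup.2 ⟨⟨y, hy⟩, hxW ⟨y, hy⟩⟩) _ _ fun x => ?_
  rw [map_zero]
  exact h _ (hW x) (hWU x)

/-- The short exact step sequence. -/
theorem exists_step (hJ : J = J' ⊔ Ideal.span {t}) (ht : t * t ∈ J')
    (hm : Submodule.colon J' ({t} : Set A) = m) (hn : IsNilpotent J) :
    ∃ S : ShortComplex (CohTop.Ab X.toTopCat), S.ShortExact ∧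
      Nonempty (S.X₁ ≅ (CohTop.push (iq f m).base).obj (Coh.toAb (Coh.structureModule (pullback f (spQ m))))) ∧
      ∃ (e₂ : G f J' ≅ S.X₂) (e₃ : G f J ≅ S.X₃), cJ f J' ≫ e₂.hom ≫ S.g = cJ f J ≫ e₃.hom := by
  have hle : J' ≤ J := hJ ▸ le_sup_left
  have hn' : IsNilpotent J' := by
    obtain ⟨N, hN⟩ := hn
    exact ⟨N, le_bot_iff.1 ((Ideal.pow_right_mono hle N).trans hN.le)⟩
  obtain ⟨τ, hτ⟩ := exists_τ f hle hn'
  haveI := epi_cJ f hn'
  haveI := epi_cJ f hn
  haveI := epi_resM f m
  have hker : ∀ (U : X.Opens) (b : (Coh.toAb (Coh.structureModule X)).obj.obj (op U)),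
      (nu f hJ ht).hom.app (op U) b = 0 ↔ (resM f m).hom.app (op U) b = 0 := fun U b => by
    constructor
    · intro h
      refine zero_of_locally fun W hW hWU => ?_
      rw [← NatTrans.naturality_apply (resM f m).hom (homOfLE hWU).op b]
      refine (nu_eq_zero_iff f hJ ht hm ⟨W, hW⟩ _).1 ?_
      exact (NatTrans.naturality_apply (nu f hJ ht).hom (homOfLE hWU).op b).trans (by rw [h, map_zero])
    · intro h
      refine zero_of_locally fun W hW hWU => ?_
      rw [← NatTrans.naturality_apply (nu f hJ ht).hom (homOfLE hWU).op b]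
      refine (nu_eq_zero_iff f hJ ht hm ⟨W, hW⟩ _).2 ?_
      exact (NatTrans.naturality_apply (resM f m).hom (homOfLE hWU).op b).trans (by rw [h, map_zero])
  have hdesc : kernel.ι (resM f m) ≫ nu f hJ ht = 0 := by
    apply Sheaf.hom_ext
    ext U s
    exact (hker U.unop _).2 congr($(kernel.condition (resM f m)).hom.app U s)
  let ν := Abelian.epiDesc (resM f m) (nu f hJ ht) hdesc
  have hν : resM f m ≫ ν = nu f hJ ht := Abelian.comp_epiDesc _ _ _
  have hνapp : ∀ (U : X.Opens) b, ν.hom.app (op U) ((resM f m).hom.app (op U) b) = (nu f hJ ht).hom.app (op U) b :=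
    fun U b => congr($(hν).hom.app (op U) b)
  have hwnu : nu f hJ ht ≫ τ = 0 := by
    apply Sheaf.hom_ext
    ext U s
    refine zero_of_locally fun W hW hWU => ?_
    rw [← NatTrans.naturality_apply (nu f hJ ht ≫ τ).hom (homOfLE hWU).op s]
    set b : Γ(X, W) := (Coh.toAb (Coh.structureModule X)).obj.map (homOfLE hWU).op s
    have htm : IsNilpotent (ψ f W t * b) := by
      obtain ⟨N, hN⟩ := hn
      refine ⟨N, ?_⟩
      have hmem : t ^ N ∈ J ^ N := Ideal.pow_mem_pow (hJ ▸ Ideal.mem_sup_right (Ideal.mem_span_singleton_self t)) N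
      rw [hN] at hmem
      have h0 : t ^ N = 0 := by simpa using hmem
      rw [mul_pow, ← map_pow, h0, map_zero, zero_mul]
    let u : (UnitsSh.unitsAb X).obj.obj (op W) := UnitsSh.sectOfUnit (O := X.presheaf) htm.isUnit_one_add.unit
    have e : (nu f hJ ht).hom.app (op W) b = (cJ f J').hom.app (op W) u := congrArg Additive.ofMul (Units.ext (by
      show 1 + (iq f J').app W (ψ f W t) * (iq f J').app W b = (iq f J').app W (1 + ψ f W t * b)
      rw [map_add, map_one, map_mul]))
    show τ.hom.app (op W) ((nu f hJ ht).hom.app (op W) b) = 0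
    rw [e]
    show (cJ f J' ≫ τ).hom.app (op W) u = 0
    rw [hτ]
    refine (cJ_eq_zero_iff f J W u).2 ?_
    show (iq f J).app W (1 + ψ f W t * b - 1) = 0
    rw [add_sub_cancel_left, iq_app_eq_zero_iff f J ⟨W, hW⟩]
    exact Ideal.mul_mem_right _ _ (Ideal.mem_map_of_mem _ (hJ ▸ Ideal.mem_sup_right (Ideal.mem_span_singleton_self t)))
  have hw : ν ≫ τ = 0 := by rw [← cancel_epi (resM f m), ← Category.assoc, hν, hwnu, comp_zero]
  haveI : Epi τ := epi_of_epi_fac hτ
  have hinj : ∀ U, Function.Injective (ν.hom.app (op U)) := fun U => (injective_iff_map_eq_zero _).2 fun s hs => by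
    refine zero_of_locally fun W hW hWU => ?_
    obtain ⟨b, hb⟩ := (iq f m).app_surjective W hW
      (((CohTop.push (iq f m).base).obj (Coh.toAb (Coh.structureModule (pullback f (spQ m))))).obj.map (homOfLE hWU).op s)
    refine hb.symm.trans ((nu_eq_zero_iff f hJ ht hm ⟨W, hW⟩ b).1 ?_)
    refine (hνapp W b).symm.trans ?_
    refine (congrArg (ν.hom.app (op W)) hb).trans ((NatTrans.naturality_apply ν.hom (homOfLE hWU).op s).trans ?_)
    rw [hs, map_zero]
  refine ⟨ShortComplex.mk ν τ hw, CohFound.shortExact_of_sections hinj (fun U s hs => ?_) (fun U s x hx => ?_),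
    ⟨Iso.refl _⟩, Iso.refl _, Iso.refl _, ?_⟩
  · have hloc : ∀ (W : X.Opens), IsAffineOpen W → ∀ (hWU : W ≤ U),
        ∃ b, ν.hom.app (op W) b = (G f J').obj.map (homOfLE hWU).op s := fun W hW hWU => by
      obtain ⟨v, hv⟩ := exists_unit_lift f hn' ⟨W, hW⟩ ((G f J').obj.map (homOfLE hWU).op s)
      have hvJ : (cJ f J).hom.app (op W) v = 0 := by
        rw [← hτ]
        show τ.hom.app (op W) ((cJ f J').hom.app (op W) v) = 0
        rw [hv, NatTrans.naturality_apply τ.hom (homOfLE hWU).op s]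
        exact (congrArg _ hs).trans (map_zero _)
      have hmem := (iq_app_eq_zero_iff f J ⟨W, hW⟩ _).1 ((cJ_eq_zero_iff f J W v).1 hvJ)
      rw [hJ, Ideal.map_sup, Ideal.map_span, Set.image_singleton] at hmem
      obtain ⟨y, hy, z, hz, hyz⟩ := Submodule.mem_sup.1 hmem
      obtain ⟨c, rfl⟩ := Ideal.mem_span_singleton.1 hz
      refine ⟨(resM f m).hom.app (op W) c, (hνapp W c).trans (Eq.trans ?_ hv)⟩
      refine congrArg Additive.ofMul (Units.ext ?_)
      show 1 + (iq f J').app W (ψ f W t) * (iq f J').app W c = (iq f J').app W (UnitsSh.unitOfSect (O := X.presheaf) v).val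
      rw [← map_mul, ← add_sub_cancel 1 (UnitsSh.unitOfSect (O := X.presheaf) v).val, ← hyz, map_add, map_add, map_one,
        (iq_app_eq_zero_iff f J' ⟨W, hW⟩ y).2 hy, zero_add]
    choose W hW hxW hWU using fun x : U => exists_isAffineOpen_mem_and_subset x.2
    choose b hb using fun x => hloc (W x) (hW x) (hWU x)
    obtain ⟨B, hB, -⟩ := TopCat.Sheaf.existsUnique_gluing'
      ((CohTop.push (iq f m).base).obj (Coh.toAb (Coh.structureModule (pullback f (spQ m))))) W U
      (fun x => homOfLE (hWU x)) (fun y hy => Opens.mem_iSup.2 ⟨⟨y, hy⟩, hxW ⟨y, hy⟩⟩) b fun x y => by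
        refine hinj _ ?_
        refine (NatTrans.naturality_apply ν.hom (Opens.infLELeft (W x) (W y)).op (b x)).trans ?_
        refine Eq.trans ?_ (NatTrans.naturality_apply ν.hom (Opens.infLERight (W x) (W y)).op (b y)).symm
        rw [hb, hb, ← CategoryTheory.Functor.map_comp_apply, ← CategoryTheory.Functor.map_comp_apply]
        rfl
    refine ⟨B, TopCat.Sheaf.eq_of_locally_eq' (G f J') W U (fun x => homOfLE (hWU x))
      (fun y hy => Opens.mem_iSup.2 ⟨⟨y, hy⟩, hxW ⟨y, hy⟩⟩) _ _ fun x => ?_⟩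
    exact (NatTrans.naturality_apply ν.hom (homOfLE (hWU x)).op B).symm.trans ((congrArg _ (hB x)).trans (hb x))
  · obtain ⟨W, hW, hxW, hWU'⟩ := exists_isAffineOpen_mem_and_subset hx
    have hWU : W ≤ U := hWU'
    obtain ⟨u, hu⟩ := exists_unit_lift f hn ⟨W, hW⟩ ((G f J).obj.map (homOfLE hWU).op s)
    exact ⟨W, hWU, hxW, (cJ f J').hom.app (op W) u, (congr($(hτ).hom.app (op W) u)).trans hu⟩
  · rw [Iso.refl_hom, Iso.refl_hom, Category.id_comp, Category.comp_id, hτ]

end Step

end Groth.Agent.FGA3
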